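import Cfsg.Agent.H915.GNDefs
import Cfsg.Agent.H979.LieSplit
import Cfsg.Agent.H580.LieBad

/-!
# S5731, AF7: the characteristic divides the order (helper759)

* `isLieTypeChar_of_name` : a group with a name `g` of Lie type in characteristic `p` satisfies `IsLieTypeChar p`;
* `dvd_of_LP` : `p` divides its order.
-/

set_option autoImplicit false

namespace Cfsg.Agent.H759.Af

open Cfsg Cfsg.Agent.OrdDiv Cfsg.Agent.H436 Cfsg.Agent.H915.GN

universe u

/-- the characteristic of a field of prime power order -/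
theorem charP_of_card {F : Type*} [Field F] [Fintype F] {p f k : ℕ} (hp : p.Prime) (h : Fintype.card F = (p ^ f) ^ k) :
    CharP F p := by
  obtain ⟨r, hr⟩ := CharP.exists F
  obtain ⟨n, hr2, hn⟩ := FiniteField.card F r
  have h1 : 1 < Fintype.card F := Fintype.one_lt_card
  have h2 : r ∣ (p ^ f) ^ k := by
    rw [← h, hn]
    exact dvd_pow_self r n.ne_zero
  have h3 : r = p := (Nat.prime_dvd_prime_iff_eq hr2 hp).1 (hr2.dvd_of_dvd_pow (hr2.dvd_of_dvd_pow h2))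
  rwa [← h3]

theorem charP_of_card' {F : Type*} [Field F] [Fintype F] {p f q : ℕ} (hp : p.Prime) (h : Fintype.card F = q)
    (hq : q = p ^ f) : CharP F p := charP_of_card (f := f) (k := 1) hp (by rw [h, hq, pow_one])

/-- a name of Lie type in characteristic `p` -/
theorem isLieTypeChar_of_name {p : ℕ} (hp : p.Prime) {T : Type u} [Group T] {g : Grp} (hc : Cond g)
    (hch : HasChar p g) (hr : Real g T) : IsLieTypeChar p T := by
  have two : ∀ {a b f : ℕ} {r : ℕ}, r.Prime → a ≠ 0 → b = r ^ a → b = p ^ f → p = r := by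
    intro a b f r hr ha h1 h2
    have h3 : r ∣ p ^ f := by rw [← h2, h1]; exact dvd_pow_self r ha
    exact ((Nat.prime_dvd_prime_iff_eq hr hp).1 (hr.dvd_of_dvd_pow h3)).symm
  cases g with
  | psl n q =>
    obtain ⟨f, hf⟩ := hch
    obtain ⟨F, _, _, hF, e⟩ := hr
    obtain ⟨h1, h2, -⟩ := hc
    exact Or.inl ⟨F, inferInstance, inferInstance, charP_of_card' hp hF hf, n, h1, fun h => hF ▸ h2 h, e⟩
  | psp m q =>
    obtain ⟨f, hf⟩ := hch
    obtain ⟨F, _, _, hF, e⟩ := hr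
    obtain ⟨h1, h2, -⟩ := hc
    exact Or.inr (Or.inl ⟨F, inferInstance, inferInstance, charP_of_card' hp hF hf, m, h1, fun h => hF ▸ h2 h, e⟩)
  | psu n q =>
    obtain ⟨f, hf⟩ := hch
    obtain ⟨F, _, _, hF, e⟩ := hr
    obtain ⟨h1, h2, -⟩ := hc
    exact Or.inr (Or.inr (Or.inl ⟨F, inferInstance, inferInstance, charP_of_card (f := f) (k := 2) hp (by rw [hF, hf]),
      n, q, hF, h1, h2, e⟩))
  | oodd m q =>
    obtain ⟨f, hf⟩ := hch
    obtain ⟨F, _, _, hF, e⟩ := hr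
    obtain ⟨h1, h2, -⟩ := hc
    exact Or.inr (Or.inr (Or.inr (Or.inl ⟨F, inferInstance, inferInstance, charP_of_card' hp hF hf, m, h1, hF ▸ h2, e⟩)))
  | oplus m q =>
    obtain ⟨f, hf⟩ := hch
    obtain ⟨F, _, _, hF, e⟩ := hr
    obtain ⟨h1, -⟩ := hc
    exact Or.inr (Or.inr (Or.inr (Or.inr (Or.inl ⟨F, inferInstance, inferInstance, charP_of_card' hp hF hf, m, h1,
      e⟩))))
  | ominus m q =>
    obtain ⟨f, hf⟩ := hch
    obtain ⟨F, _, _, a, b, hF, hab, e⟩ := hr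
    obtain ⟨h1, -⟩ := hc
    exact Or.inr (Or.inr (Or.inr (Or.inr (Or.inr (Or.inl ⟨F, inferInstance, inferInstance, charP_of_card' hp hF hf, m,
      a, b, h1, hab, e⟩)))))
  | g2 q =>
    obtain ⟨f, hf⟩ := hch
    obtain ⟨F, _, _, hF, e⟩ := hr
    obtain ⟨h1, -⟩ := hc
    exact Or.inr (Or.inr (Or.inr (Or.inr (Or.inr (Or.inr (Or.inl ⟨F, inferInstance, inferInstance,
      charP_of_card' hp hF hf, Or.inl ⟨hF ▸ h1, e⟩⟩))))))
  | f4 q =>
    obtain ⟨f, hf⟩ := hch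
    obtain ⟨F, _, _, hF, e⟩ := hr
    exact Or.inr (Or.inr (Or.inr (Or.inr (Or.inr (Or.inr (Or.inl ⟨F, inferInstance, inferInstance,
      charP_of_card' hp hF hf, Or.inr (Or.inl e)⟩))))))
  | e6 q =>
    obtain ⟨f, hf⟩ := hch
    obtain ⟨F, _, _, hF, e⟩ := hr
    exact Or.inr (Or.inr (Or.inr (Or.inr (Or.inr (Or.inr (Or.inl ⟨F, inferInstance, inferInstance,
      charP_of_card' hp hF hf, Or.inr (Or.inr (Or.inl e))⟩))))))
  | e7 q =>
    obtain ⟨f, hf⟩ := hch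
    obtain ⟨F, _, _, hF, e⟩ := hr
    exact Or.inr (Or.inr (Or.inr (Or.inr (Or.inr (Or.inr (Or.inl ⟨F, inferInstance, inferInstance,
      charP_of_card' hp hF hf, Or.inr (Or.inr (Or.inr (Or.inl e)))⟩))))))
  | e8 q =>
    obtain ⟨f, hf⟩ := hch
    obtain ⟨F, _, _, hF, e⟩ := hr
    exact Or.inr (Or.inr (Or.inr (Or.inr (Or.inr (Or.inr (Or.inl ⟨F, inferInstance, inferInstance,
      charP_of_card' hp hF hf, Or.inr (Or.inr (Or.inr (Or.inr e)))⟩))))))
  | te6 q =>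
    obtain ⟨f, hf⟩ := hch
    obtain ⟨F, _, _, hF, e⟩ := hr
    exact Or.inr (Or.inr (Or.inr (Or.inr (Or.inr (Or.inr (Or.inr (Or.inl ⟨F, inferInstance, inferInstance,
      charP_of_card (f := f) (k := 2) hp (by rw [hF, hf]), q, hc, Or.inl ⟨hF, e⟩⟩)))))))
  | td4 q =>
    obtain ⟨f, hf⟩ := hch
    obtain ⟨F, _, _, hF, e⟩ := hr
    exact Or.inr (Or.inr (Or.inr (Or.inr (Or.inr (Or.inr (Or.inr (Or.inl ⟨F, inferInstance, inferInstance,
      charP_of_card (f := f) (k := 3) hp (by rw [hF, hf]), q, hc, Or.inr ⟨hF, e⟩⟩)))))))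
  | sz q =>
    obtain ⟨f, hf⟩ := hch
    obtain ⟨F, _, _, m, hm, hF, hq, e⟩ := hr
    refine Or.inr (Or.inr (Or.inr (Or.inr (Or.inr (Or.inr (Or.inr (Or.inr (Or.inl ⟨two Nat.prime_two (by omega) hq hf,
      ?_⟩))))))))
    exact ⟨F, inferInstance, inferInstance, m, hm, hF.trans hq, e⟩
  | tf4 q =>
    obtain ⟨f, hf⟩ := hch
    obtain ⟨F, _, _, m, hm, hF, hq, e⟩ := hr
    refine Or.inr (Or.inr (Or.inr (Or.inr (Or.inr (Or.inr (Or.inr (Or.inr (Or.inr (Or.inl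
      ⟨two Nat.prime_two (by omega) hq hf, ?_⟩)))))))))
    exact ⟨F, inferInstance, inferInstance, m, hm, hF.trans hq, e⟩
  | ree q =>
    obtain ⟨f, hf⟩ := hch
    obtain ⟨F, _, _, m, hm, hF, hq, e⟩ := hr
    refine Or.inr (Or.inr (Or.inr (Or.inr (Or.inr (Or.inr (Or.inr (Or.inr (Or.inr (Or.inr
      ⟨two Nat.prime_three (by omega) hq hf, ?_⟩)))))))))
    exact ⟨F, inferInstance, inferInstance, m, hm, hF.trans hq, e⟩
  | _ => exact absurd hch id

/-- **AF7** -/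
theorem dvd_of_LP {p : ℕ} (hp : p.Prime) {T : Type u} [Group T] [Finite T] [IsSimpleGroup T]
    (h : ∃ g : Grp, Cond g ∧ HasChar p g ∧ Real g T) : p ∣ Nat.card T := by
  obtain ⟨g, hc, hch, hr⟩ := h
  have : Fact p.Prime := ⟨hp⟩
  obtain ⟨P, U, ⟨s, hs⟩, hU⟩ := H979.LieSplit.hasSplit_of_isLieTypeChar hp (isLieTypeChar_of_name hp hc hch hr)
  exact H580.LieBad.dvd_card hU hs

end Cfsg.Agent.H759.Af
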